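import Cfsg.Agent.Lib.H35.TCF24Q.Data
import Cfsg.Agent.Lib.H35.TC
set_option autoImplicit false
set_option maxRecDepth 100000
set_option linter.all false
namespace H35.TCF24Q
open H35.TC
/-- letters -/
inductive Lt | l | k | a | b | c | d | e | f | h
  deriving DecidableEq
/-- inverse letter -/
def inv : Lt → Lt
  | .l => .l
  | .k => .k
  | .a => .a
  | .b => .b
  | .c => .c
  | .d => .d
  | .e => .e
  | .f => .f
  | .h => .h
/-- table functions -/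
noncomputable def T : Lt → ℕ → ℕ
  | .l => T_l
  | .k => T_k
  | .a => T_a
  | .b => T_b
  | .c => T_c
  | .d => T_d
  | .e => T_e
  | .f => T_f
  | .h => T_h
/-- decoding of letter codes -/
def lt : ℕ → Lt
  | 0 => .l
  | 1 => .k
  | 2 => .a
  | 3 => .b
  | 4 => .c
  | 5 => .d
  | 6 => .e
  | 7 => .f
  | _ => .h
/-- Coxeter matrix (0: no relation) -/
def mm : Lt → Lt → ℕ
  | .l, .l => 1
  | .l, .k => 3
  | .l, .a => 2
  | .l, .b => 2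
  | .l, .c => 2
  | .l, .d => 2
  | .l, .e => 2
  | .l, .f => 2
  | .l, .h => 2
  | .k, .l => 3
  | .k, .k => 1
  | .k, .a => 3
  | .k, .b => 2
  | .k, .c => 2
  | .k, .d => 2
  | .k, .e => 2
  | .k, .f => 2
  | .k, .h => 2
  | .a, .l => 2
  | .a, .k => 3
  | .a, .a => 1
  | .a, .b => 3
  | .a, .c => 2
  | .a, .d => 2
  | .a, .e => 2
  | .a, .f => 2
  | .a, .h => 2
  | .b, .l => 2
  | .b, .k => 2
  | .b, .a => 3
  | .b, .b => 1
  | .b, .c => 3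
  | .b, .d => 2
  | .b, .e => 2
  | .b, .f => 2
  | .b, .h => 2
  | .c, .l => 2
  | .c, .k => 2
  | .c, .a => 2
  | .c, .b => 3
  | .c, .c => 1
  | .c, .d => 3
  | .c, .e => 2
  | .c, .f => 2
  | .c, .h => 2
  | .d, .l => 2
  | .d, .k => 2
  | .d, .a => 2
  | .d, .b => 2
  | .d, .c => 3
  | .d, .d => 1
  | .d, .e => 3
  | .d, .f => 2
  | .d, .h => 3
  | .e, .l => 2
  | .e, .k => 2
  | .e, .a => 2
  | .e, .b => 2
  | .e, .c => 2
  | .e, .d => 3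
  | .e, .e => 1
  | .e, .f => 3
  | .e, .h => 2
  | .f, .l => 2
  | .f, .k => 2
  | .f, .a => 2
  | .f, .b => 2
  | .f, .c => 2
  | .f, .d => 2
  | .f, .e => 3
  | .f, .f => 1
  | .f, .h => 2
  | .h, .l => 2
  | .h, .k => 2
  | .h, .a => 2
  | .h, .b => 2
  | .h, .c => 2
  | .h, .d => 3
  | .h, .e => 2
  | .h, .f => 2
  | .h, .h => 1
/-- extra relators `w ^ n` -/
def extra : List (List Lt × ℕ) := [
  ([.l, .h, .f, .e, .d, .c, .b, .a, .h, .f, .e, .d, .c, .b, .a, .h, .f, .e, .d, .c, .b, .a, .h, .f, .e, .d, .c, .b, .a, .h, .f, .e, .d, .c, .b, .a, .h, .f, .e, .d, .c, .b, .a, .h, .f, .e, .d, .c, .b, .a, .h, .f, .e, .d, .c, .b, .a, .h, .f, .e, .d, .c, .b, .a], 1)]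
/-- relators -/
def rels : List (List Lt) := mkRels [(.l, .a), (.h, .f), (.e, .h), (.d, .f), (.c, .f), (.c, .h), (.c, .e), (.b, .f), (.b, .h), (.b, .e), (.b, .d), (.a, .f), (.a, .h), (.a, .e), (.a, .d), (.a, .c), (.k, .f), (.k, .h), (.k, .e), (.k, .d), (.k, .c), (.k, .b), (.l, .f), (.l, .b), (.l, .h), (.l, .e), (.l, .d), (.l, .c), (.c, .d), (.l, .k), (.e, .f), (.d, .h), (.d, .e), (.a, .b), (.k, .a), (.b, .c), (.l, .l), (.k, .k), (.a, .a), (.b, .b), (.c, .c), (.d, .d), (.e, .e), (.f, .f), (.h, .h)] mm extra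
/-- subgroup words -/
def subs : List (List Lt) := [
  [.a],
  [.b],
  [.c],
  [.d],
  [.e],
  [.f],
  [.h]]
noncomputable def dp_l_0 (j u : ℕ) : Bool :=
  Bool.rec (motive := fun _ => Bool) (lF3 T_b T_l T_b M (Nat.sub (T_l u) (Nat.mod (T_l u) M)) (Nat.mod (T_l u) M) u) (lF3 T_f T_l T_f M (Nat.sub (T_l u) (Nat.mod (T_l u) M)) (Nat.mod (T_l u) M) u) (Nat.ble (nat_lit 6) j)
noncomputable def dp_l_1 (j u : ℕ) : Bool :=
  Bool.rec (motive := fun _ => Bool) (lDef P (nat_lit 0) (Nat.mod (T_l u) M) u) (lDef P (nat_lit 0) u (Nat.mod (T_l u) M)) (Nat.ble (nat_lit 8) j)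
noncomputable def dp_l_2 (j u : ℕ) : Bool :=
  Bool.rec (motive := fun _ => Bool) (lF [T_k, T_l, T_k, T_l, T_k] M (Nat.sub (T_l u) (Nat.mod (T_l u) M)) (Nat.mod (T_l u) M) u) (lS MG [T_e, T_l, T_e] M (Nat.sub (T_l u) (Nat.mod (T_l u) M)) (nat_lit 40) (Nat.mod (T_l u) M) u) (Nat.ble (nat_lit 12) j)
noncomputable def dp_l_3 (j u : ℕ) : Bool :=
  Bool.rec (motive := fun _ => Bool) (lF [T_h, T_f, T_e, T_d, T_c, T_b, T_a, T_h, T_f, T_e, T_d, T_c, T_b, T_a, T_h, T_f, T_e, T_d, T_c, T_b, T_a, T_h, T_f, T_e, T_d, T_c, T_b, T_a, T_h, T_f, T_e, T_d, T_c, T_b, T_a, T_h, T_f, T_e, T_d, T_c, T_b, T_a, T_h, T_f, T_e, T_d, T_c, T_b, T_a, T_h, T_f, T_e, T_d, T_c, T_b, T_a, T_h, T_f, T_e, T_d, T_c, T_b, T_a] M (Nat.sub (T_l u) (Nat.mod (T_l u) M)) (Nat.mod (T_l u) M) u) (dp_l_2 j u) (Nat.ble (nat_lit 11) j)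
noncomputable def dp_l_4 (j u : ℕ) : Bool :=
  Bool.rec (motive := fun _ => Bool) (lF3 T_a T_l T_a M (Nat.sub (T_l u) (Nat.mod (T_l u) M)) (Nat.mod (T_l u) M) u) (dp_l_3 j u) (Nat.ble (nat_lit 10) j)
noncomputable def dp_l_5 (j u : ℕ) : Bool :=
  Bool.rec (motive := fun _ => Bool) (Bool.rec (motive := fun _ => Bool) (lF3 T_e T_l T_e M (Nat.sub (T_l u) (Nat.mod (T_l u) M)) (Nat.mod (T_l u) M) u) (lF3 T_h T_l T_h M (Nat.sub (T_l u) (Nat.mod (T_l u) M)) (Nat.mod (T_l u) M) u) (Nat.ble (nat_lit 4) j)) (Bool.rec (motive := fun _ => Bool) (dp_l_0 j u) (Bool.rec (motive := fun _ => Bool) (dp_l_1 j u) (dp_l_4 j u) (Nat.ble (nat_lit 9) j)) (Nat.ble (nat_lit 7) j)) (Nat.ble (nat_lit 5) j)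
noncomputable def disp_l (j u : ℕ) : Bool :=
  Bool.rec (motive := fun _ => Bool) (Bool.rec (motive := fun _ => Bool) (lF1 T_l M (Nat.sub (T_l u) (Nat.mod (T_l u) M)) (Nat.mod (T_l u) M) u) (Bool.rec (motive := fun _ => Bool) (lF3 T_d T_l T_d M (Nat.sub (T_l u) (Nat.mod (T_l u) M)) (Nat.mod (T_l u) M) u) (lF3 T_c T_l T_c M (Nat.sub (T_l u) (Nat.mod (T_l u) M)) (Nat.mod (T_l u) M) u) (Nat.ble (nat_lit 2) j)) (Nat.ble (nat_lit 1) j)) (dp_l_5 j u) (Nat.ble (nat_lit 3) j)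
noncomputable def chk_l (j u : ℕ) : Bool :=
  Bool.rec (motive := fun _ => Bool) (disp_l j u) (Nat.ble (Nat.succ (MG u)) A) (Nat.ble A (T_l u))
noncomputable def dp_k_0 (j u : ℕ) : Bool :=
  Bool.rec (motive := fun _ => Bool) (lF [T_l, T_k, T_l, T_k, T_l] M (Nat.sub (T_k u) (Nat.mod (T_k u) M)) (Nat.mod (T_k u) M) u) (lF [T_a, T_k, T_a, T_k, T_a] M (Nat.sub (T_k u) (Nat.mod (T_k u) M)) (Nat.mod (T_k u) M) u) (Nat.ble (nat_lit 10) j)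
noncomputable def dp_k_1 (j u : ℕ) : Bool :=
  Bool.rec (motive := fun _ => Bool) (lF3 T_f T_k T_f M (Nat.sub (T_k u) (Nat.mod (T_k u) M)) (Nat.mod (T_k u) M) u) (dp_k_0 j u) (Nat.ble (nat_lit 9) j)
noncomputable def disp_k (j u : ℕ) : Bool :=
  Bool.rec (motive := fun _ => Bool) (Bool.rec (motive := fun _ => Bool) (lF1 T_k M (Nat.sub (T_k u) (Nat.mod (T_k u) M)) (Nat.mod (T_k u) M) u) (Bool.rec (motive := fun _ => Bool) (lF3 T_c T_k T_c M (Nat.sub (T_k u) (Nat.mod (T_k u) M)) (Nat.mod (T_k u) M) u) (lF3 T_b T_k T_b M (Nat.sub (T_k u) (Nat.mod (T_k u) M)) (Nat.mod (T_k u) M) u) (Nat.ble (nat_lit 2) j)) (Nat.ble (nat_lit 1) j)) (Bool.rec (motive := fun _ => Bool) (Bool.rec (motive := fun _ => Bool) (lF3 T_d T_k T_d M (Nat.sub (T_k u) (Nat.mod (T_k u) M)) (Nat.mod (T_k u) M) u) (lF3 T_e T_k T_e M (Nat.sub (T_k u) (Nat.mod (T_k u) M)) (Nat.mod (T_k u) M) u)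 (Nat.ble (nat_lit 4) j)) (Bool.rec (motive := fun _ => Bool) (Bool.rec (motive := fun _ => Bool) (lF3 T_h T_k T_h M (Nat.sub (T_k u) (Nat.mod (T_k u) M)) (Nat.mod (T_k u) M) u) (lDef P (nat_lit 1) (Nat.mod (T_k u) M) u) (Nat.ble (nat_lit 6) j)) (Bool.rec (motive := fun _ => Bool) (lDef P (nat_lit 1) u (Nat.mod (T_k u) M)) (dp_k_1 j u) (Nat.ble (nat_lit 8) j)) (Nat.ble (nat_lit 7) j)) (Nat.ble (nat_lit 5) j)) (Nat.ble (nat_lit 3) j)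
noncomputable def chk_k (j u : ℕ) : Bool :=
  Bool.rec (motive := fun _ => Bool) (disp_k j u) (Nat.ble (Nat.succ (MG u)) A) (Nat.ble A (T_k u))
noncomputable def dp_a_0 (j u : ℕ) : Bool :=
  Bool.rec (motive := fun _ => Bool) (lF3 T_l T_a T_l M (Nat.sub (T_a u) (Nat.mod (T_a u) M)) (Nat.mod (T_a u) M) u) (lS MG [T_d, T_a, T_d] M (Nat.sub (T_a u) (Nat.mod (T_a u) M)) (nat_lit 40) (Nat.mod (T_a u) M) u) (Nat.ble (nat_lit 12) j)
noncomputable def dp_a_1 (j u : ℕ) : Bool :=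
  Bool.rec (motive := fun _ => Bool) (lH [] [] M (Nat.sub (T_a u) (Nat.mod (T_a u) M)) (Nat.mod (T_a u) M) u) (dp_a_0 j u) (Nat.ble (nat_lit 11) j)
noncomputable def dp_a_2 (j u : ℕ) : Bool :=
  Bool.rec (motive := fun _ => Bool) (lF [T_b, T_a, T_b, T_a, T_b] M (Nat.sub (T_a u) (Nat.mod (T_a u) M)) (Nat.mod (T_a u) M) u) (dp_a_1 j u) (Nat.ble (nat_lit 10) j)
noncomputable def dp_a_3 (j u : ℕ) : Bool :=
  Bool.rec (motive := fun _ => Bool) (lF [T_k, T_a, T_k, T_a, T_k] M (Nat.sub (T_a u) (Nat.mod (T_a u) M)) (Nat.mod (T_a u) M) u) (dp_a_2 j u) (Nat.ble (nat_lit 9) j)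
noncomputable def disp_a (j u : ℕ) : Bool :=
  Bool.rec (motive := fun _ => Bool) (Bool.rec (motive := fun _ => Bool) (lF1 T_a M (Nat.sub (T_a u) (Nat.mod (T_a u) M)) (Nat.mod (T_a u) M) u) (Bool.rec (motive := fun _ => Bool) (lF3 T_d T_a T_d M (Nat.sub (T_a u) (Nat.mod (T_a u) M)) (Nat.mod (T_a u) M) u) (lF3 T_c T_a T_c M (Nat.sub (T_a u) (Nat.mod (T_a u) M)) (Nat.mod (T_a u) M) u) (Nat.ble (nat_lit 2) j)) (Nat.ble (nat_lit 1) j)) (Bool.rec (motive := fun _ => Bool) (Bool.rec (motive := fun _ => Bool) (lF3 T_e T_a T_e M (Nat.sub (T_a u) (Nat.mod (T_a u) M)) (Nat.mod (T_a u) M) u) (lDef P (nat_lit 2) (Nat.mod (T_a u) M) u) (Nat.ble (nat_lit 4) j)) (Bool.rec (motive := fun _ => Bool) (Bool.rec (motive := fun _ => Bool) (lDef P (nat_lit 2) u (Nat.mod (T_a u) M)) (lF3 T_h T_a T_h M (Nat.sub (T_a u) (Nat.mod (T_a u) M)) (Nat.mod (T_a u) M) u) (Nat.ble (nat_lit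 6) j)) (Bool.rec (motive := fun _ => Bool) (lF3 T_f T_a T_f M (Nat.sub (T_a u) (Nat.mod (T_a u) M)) (Nat.mod (T_a u) M) u) (dp_a_3 j u) (Nat.ble (nat_lit 8) j)) (Nat.ble (nat_lit 7) j)) (Nat.ble (nat_lit 5) j)) (Nat.ble (nat_lit 3) j)
noncomputable def chk_a (j u : ℕ) : Bool :=
  Bool.rec (motive := fun _ => Bool) (disp_a j u) (Nat.ble (Nat.succ (MG u)) A) (Nat.ble A (T_a u))
noncomputable def dp_b_0 (j u : ℕ) : Bool :=
  Bool.rec (motive := fun _ => Bool) (lH [] [] M (Nat.sub (T_b u) (Nat.mod (T_b u) M)) (Nat.mod (T_b u) M) u) (lS MG [T_d, T_b, T_d] M (Nat.sub (T_b u) (Nat.mod (T_b u) M)) (nat_lit 40) (Nat.mod (T_b u) M) u) (Nat.ble (nat_lit 12) j)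
noncomputable def dp_b_1 (j u : ℕ) : Bool :=
  Bool.rec (motive := fun _ => Bool) (lF [T_a, T_b, T_a, T_b, T_a] M (Nat.sub (T_b u) (Nat.mod (T_b u) M)) (Nat.mod (T_b u) M) u) (dp_b_0 j u) (Nat.ble (nat_lit 11) j)
noncomputable def dp_b_2 (j u : ℕ) : Bool :=
  Bool.rec (motive := fun _ => Bool) (lF [T_c, T_b, T_c, T_b, T_c] M (Nat.sub (T_b u) (Nat.mod (T_b u) M)) (Nat.mod (T_b u) M) u) (dp_b_1 j u) (Nat.ble (nat_lit 10) j)
noncomputable def dp_b_3 (j u : ℕ) : Bool :=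
  Bool.rec (motive := fun _ => Bool) (lF3 T_f T_b T_f M (Nat.sub (T_b u) (Nat.mod (T_b u) M)) (Nat.mod (T_b u) M) u) (dp_b_2 j u) (Nat.ble (nat_lit 9) j)
noncomputable def dp_b_4 (j u : ℕ) : Bool :=
  Bool.rec (motive := fun _ => Bool) (Bool.rec (motive := fun _ => Bool) (lDef P (nat_lit 3) u (Nat.mod (T_b u) M)) (lF3 T_d T_b T_d M (Nat.sub (T_b u) (Nat.mod (T_b u) M)) (Nat.mod (T_b u) M) u) (Nat.ble (nat_lit 5) j)) (Bool.rec (motive := fun _ => Bool) (Bool.rec (motive := fun _ => Bool) (lF3 T_e T_b T_e M (Nat.sub (T_b u) (Nat.mod (T_b u) M)) (Nat.mod (T_b u) M) u) (lF3 T_h T_b T_h M (Nat.sub (T_b u) (Nat.mod (T_b u) M)) (Nat.mod (T_b u) M) u) (Nat.ble (nat_lit 7) j)) (dp_b_3 j u) (Nat.ble (nat_lit 8) j)) (Nat.ble (nat_lit 6) j)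
noncomputable def disp_b (j u : ℕ) : Bool :=
  Bool.rec (motive := fun _ => Bool) (Bool.rec (motive := fun _ => Bool) (Bool.rec (motive := fun _ => Bool) (lF1 T_b M (Nat.sub (T_b u) (Nat.mod (T_b u) M)) (Nat.mod (T_b u) M) u) (lF3 T_k T_b T_k M (Nat.sub (T_b u) (Nat.mod (T_b u) M)) (Nat.mod (T_b u) M) u) (Nat.ble (nat_lit 1) j)) (Bool.rec (motive := fun _ => Bool) (lF3 T_l T_b T_l M (Nat.sub (T_b u) (Nat.mod (T_b u) M)) (Nat.mod (T_b u) M) u) (lDef P (nat_lit 3) (Nat.mod (T_b u) M) u) (Nat.ble (nat_lit 3) j)) (Nat.ble (nat_lit 2) j)) (dp_b_4 j u) (Nat.ble (nat_lit 4) j)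
noncomputable def chk_b (j u : ℕ) : Bool :=
  Bool.rec (motive := fun _ => Bool) (disp_b j u) (Nat.ble (Nat.succ (MG u)) A) (Nat.ble A (T_b u))
noncomputable def dp_c_0 (j u : ℕ) : Bool :=
  Bool.rec (motive := fun _ => Bool) (lF3 T_h T_c T_h M (Nat.sub (T_c u) (Nat.mod (T_c u) M)) (Nat.mod (T_c u) M) u) (lF [T_d, T_c, T_d, T_c, T_d] M (Nat.sub (T_c u) (Nat.mod (T_c u) M)) (Nat.mod (T_c u) M) u) (Nat.ble (nat_lit 9) j)
noncomputable def dp_c_1 (j u : ℕ) : Bool :=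
  Bool.rec (motive := fun _ => Bool) (lF [T_b, T_a, T_h, T_f, T_e, T_d, T_c, T_b, T_a, T_h, T_f, T_e, T_d, T_c, T_b, T_a, T_h, T_f, T_e, T_d, T_c, T_b, T_a, T_l, T_h, T_f, T_e, T_d, T_c, T_b, T_a, T_h, T_f, T_e, T_d, T_c, T_b, T_a, T_h, T_f, T_e, T_d, T_c, T_b, T_a, T_h, T_f, T_e, T_d, T_c, T_b, T_a, T_h, T_f, T_e, T_d, T_c, T_b, T_a, T_h, T_f, T_e, T_d] M (Nat.sub (T_c u) (Nat.mod (T_c u) M)) (Nat.mod (T_c u) M) u) (lF [T_d, T_e, T_f, T_h, T_a, T_b, T_c, T_d, T_e, T_f, T_h, T_a, T_b, T_c, T_d, T_e, T_f, T_h, T_a, T_b, T_c, T_d, T_e, T_f, T_h, T_a, T_b, T_c, T_d, T_e, T_f, T_h, T_a, T_b, T_c, T_d, T_e, T_f, T_h, T_l, T_a, T_b, T_c, T_d, T_e, T_f, T_h, T_a, T_b, T_c, T_d, T_e, T_f, T_h, T_a, T_b, T_c, T_d, T_e, T_f, T_h, T_a, T_b] M (Nat.sub (T_c u) (Nat.mod (T_c u) M)) (Nat.mod (T_c u) M) u) (Nat.ble (nat_lit 13) j)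
noncomputable def dp_c_2 (j u : ℕ) : Bool :=
  Bool.rec (motive := fun _ => Bool) (lH [] [] M (Nat.sub (T_c u) (Nat.mod (T_c u) M)) (Nat.mod (T_c u) M) u) (dp_c_1 j u) (Nat.ble (nat_lit 12) j)
noncomputable def dp_c_3 (j u : ℕ) : Bool :=
  Bool.rec (motive := fun _ => Bool) (lF [T_b, T_c, T_b, T_c, T_b] M (Nat.sub (T_c u) (Nat.mod (T_c u) M)) (Nat.mod (T_c u) M) u) (dp_c_2 j u) (Nat.ble (nat_lit 11) j)
noncomputable def dp_c_4 (j u : ℕ) : Bool :=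
  Bool.rec (motive := fun _ => Bool) (dp_c_0 j u) (dp_c_3 j u) (Nat.ble (nat_lit 10) j)
noncomputable def dp_c_5 (j u : ℕ) : Bool :=
  Bool.rec (motive := fun _ => Bool) (Bool.rec (motive := fun _ => Bool) (lF1 T_c M (Nat.sub (T_c u) (Nat.mod (T_c u) M)) (Nat.mod (T_c u) M) u) (lF3 T_a T_c T_a M (Nat.sub (T_c u) (Nat.mod (T_c u) M)) (Nat.mod (T_c u) M) u) (Nat.ble (nat_lit 5) j)) (Bool.rec (motive := fun _ => Bool) (Bool.rec (motive := fun _ => Bool) (lF3 T_e T_c T_e M (Nat.sub (T_c u) (Nat.mod (T_c u) M)) (Nat.mod (T_c u) M) u) (lF3 T_f T_c T_f M (Nat.sub (T_c u) (Nat.mod (T_c u) M)) (Nat.mod (T_c u) M) u) (Nat.ble (nat_lit 7) j)) (dp_c_4 j u) (Nat.ble (nat_lit 8) j)) (Nat.ble (nat_lit 6) j)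
noncomputable def disp_c (j u : ℕ) : Bool :=
  Bool.rec (motive := fun _ => Bool) (Bool.rec (motive := fun _ => Bool) (Bool.rec (motive := fun _ => Bool) (lDef P (nat_lit 4) (Nat.mod (T_c u) M) u) (lDef P (nat_lit 4) u (Nat.mod (T_c u) M)) (Nat.ble (nat_lit 1) j)) (Bool.rec (motive := fun _ => Bool) (lF3 T_k T_c T_k M (Nat.sub (T_c u) (Nat.mod (T_c u) M)) (Nat.mod (T_c u) M) u) (lF3 T_l T_c T_l M (Nat.sub (T_c u) (Nat.mod (T_c u) M)) (Nat.mod (T_c u) M) u) (Nat.ble (nat_lit 3) j)) (Nat.ble (nat_lit 2) j)) (dp_c_5 j u) (Nat.ble (nat_lit 4) j)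
noncomputable def chk_c (j u : ℕ) : Bool :=
  Bool.rec (motive := fun _ => Bool) (disp_c j u) (Nat.ble (Nat.succ (MG u)) A) (Nat.ble A (T_c u))
noncomputable def dp_d_0 (j u : ℕ) : Bool :=
  Bool.rec (motive := fun _ => Bool) (lF [T_e, T_d, T_e, T_d, T_e] M (Nat.sub (T_d u) (Nat.mod (T_d u) M)) (Nat.mod (T_d u) M) u) (lF3 T_f T_d T_f M (Nat.sub (T_d u) (Nat.mod (T_d u) M)) (Nat.mod (T_d u) M) u) (Nat.ble (nat_lit 7) j)
noncomputable def dp_d_1 (j u : ℕ) : Bool :=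
  Bool.rec (motive := fun _ => Bool) (lF [T_h, T_d, T_h, T_d, T_h] M (Nat.sub (T_d u) (Nat.mod (T_d u) M)) (Nat.mod (T_d u) M) u) (lH [] [] M (Nat.sub (T_d u) (Nat.mod (T_d u) M)) (Nat.mod (T_d u) M) u) (Nat.ble (nat_lit 11) j)
noncomputable def dp_d_2 (j u : ℕ) : Bool :=
  Bool.rec (motive := fun _ => Bool) (lF1 T_d M (Nat.sub (T_d u) (Nat.mod (T_d u) M)) (Nat.mod (T_d u) M) u) (dp_d_1 j u) (Nat.ble (nat_lit 10) j)
noncomputable def dp_d_3 (j u : ℕ) : Bool :=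
  Bool.rec (motive := fun _ => Bool) (lF [T_c, T_d, T_c, T_d, T_c] M (Nat.sub (T_d u) (Nat.mod (T_d u) M)) (Nat.mod (T_d u) M) u) (dp_d_2 j u) (Nat.ble (nat_lit 9) j)
noncomputable def disp_d (j u : ℕ) : Bool :=
  Bool.rec (motive := fun _ => Bool) (Bool.rec (motive := fun _ => Bool) (lDef P (nat_lit 5) (Nat.mod (T_d u) M) u) (lDef P (nat_lit 5) u (Nat.mod (T_d u) M)) (Nat.ble (nat_lit 1) j)) (Bool.rec (motive := fun _ => Bool) (Bool.rec (motive := fun _ => Bool) (lF3 T_k T_d T_k M (Nat.sub (T_d u) (Nat.mod (T_d u) M)) (Nat.mod (T_d u) M) u) (lF3 T_l T_d T_l M (Nat.sub (T_d u) (Nat.mod (T_d u) M)) (Nat.mod (T_d u) M) u) (Nat.ble (nat_lit 3) j)) (Bool.rec (motive := fun _ => Bool) (Bool.rec (motive := fun _ => Bool) (lF3 T_a T_d T_a M (Nat.sub (T_d u) (Nat.mod (T_d u) M)) (Nat.mod (T_d u) M) u) (lF3 T_b T_d T_b M (Nat.sub (T_d u) (Nat.mod (T_d u) M)) (Nat.mod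 (T_d u) M) u) (Nat.ble (nat_lit 5) j)) (Bool.rec (motive := fun _ => Bool) (dp_d_0 j u) (dp_d_3 j u) (Nat.ble (nat_lit 8) j)) (Nat.ble (nat_lit 6) j)) (Nat.ble (nat_lit 4) j)) (Nat.ble (nat_lit 2) j)
noncomputable def chk_d (j u : ℕ) : Bool :=
  Bool.rec (motive := fun _ => Bool) (disp_d j u) (Nat.ble (Nat.succ (MG u)) A) (Nat.ble A (T_d u))
noncomputable def dp_e_0 (j u : ℕ) : Bool :=
  Bool.rec (motive := fun _ => Bool) (lH [] [] M (Nat.sub (T_e u) (Nat.mod (T_e u) M)) (Nat.mod (T_e u) M) u) (lF [T_f, T_e, T_f, T_e, T_f] M (Nat.sub (T_e u) (Nat.mod (T_e u) M)) (Nat.mod (T_e u) M) u) (Nat.ble (nat_lit 11) j)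
noncomputable def dp_e_1 (j u : ℕ) : Bool :=
  Bool.rec (motive := fun _ => Bool) (lF [T_d, T_e, T_d, T_e, T_d] M (Nat.sub (T_e u) (Nat.mod (T_e u) M)) (Nat.mod (T_e u) M) u) (dp_e_0 j u) (Nat.ble (nat_lit 10) j)
noncomputable def dp_e_2 (j u : ℕ) : Bool :=
  Bool.rec (motive := fun _ => Bool) (lF1 T_e M (Nat.sub (T_e u) (Nat.mod (T_e u) M)) (Nat.mod (T_e u) M) u) (dp_e_1 j u) (Nat.ble (nat_lit 9) j)
noncomputable def dp_e_3 (j u : ℕ) : Bool :=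
  Bool.rec (motive := fun _ => Bool) (Bool.rec (motive := fun _ => Bool) (lF3 T_l T_e T_l M (Nat.sub (T_e u) (Nat.mod (T_e u) M)) (Nat.mod (T_e u) M) u) (Bool.rec (motive := fun _ => Bool) (lF3 T_a T_e T_a M (Nat.sub (T_e u) (Nat.mod (T_e u) M)) (Nat.mod (T_e u) M) u) (lF3 T_b T_e T_b M (Nat.sub (T_e u) (Nat.mod (T_e u) M)) (Nat.mod (T_e u) M) u) (Nat.ble (nat_lit 5) j)) (Nat.ble (nat_lit 4) j)) (Bool.rec (motive := fun _ => Bool) (Bool.rec (motive := fun _ => Bool) (lF3 T_h T_e T_h M (Nat.sub (T_e u) (Nat.mod (T_e u) M)) (Nat.mod (T_e u) M) u) (lF3 T_c T_e T_c M (Nat.sub (T_e u) (Nat.mod (T_e u) M)) (Nat.mod (T_e u) M) u) (Nat.ble (nat_lit 7) j)) (dp_e_2 j u) (Nat.ble (nat_lit 8) j)) (Nat.ble (nat_lit 6) j)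
noncomputable def disp_e (j u : ℕ) : Bool :=
  Bool.rec (motive := fun _ => Bool) (Bool.rec (motive := fun _ => Bool) (lDef P (nat_lit 6) (Nat.mod (T_e u) M) u) (Bool.rec (motive := fun _ => Bool) (lDef P (nat_lit 6) u (Nat.mod (T_e u) M)) (lF3 T_k T_e T_k M (Nat.sub (T_e u) (Nat.mod (T_e u) M)) (Nat.mod (T_e u) M) u) (Nat.ble (nat_lit 2) j)) (Nat.ble (nat_lit 1) j)) (dp_e_3 j u) (Nat.ble (nat_lit 3) j)
noncomputable def chk_e (j u : ℕ) : Bool :=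
  Bool.rec (motive := fun _ => Bool) (disp_e j u) (Nat.ble (Nat.succ (MG u)) A) (Nat.ble A (T_e u))
noncomputable def dp_f_0 (j u : ℕ) : Bool :=
  Bool.rec (motive := fun _ => Bool) (lF [T_e, T_f, T_e, T_f, T_e] M (Nat.sub (T_f u) (Nat.mod (T_f u) M)) (Nat.mod (T_f u) M) u) (lH [] [] M (Nat.sub (T_f u) (Nat.mod (T_f u) M)) (Nat.mod (T_f u) M) u) (Nat.ble (nat_lit 11) j)
noncomputable def dp_f_1 (j u : ℕ) : Bool :=
  Bool.rec (motive := fun _ => Bool) (lDef P (nat_lit 7) u (Nat.mod (T_f u) M)) (dp_f_0 j u) (Nat.ble (nat_lit 10) j)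
noncomputable def dp_f_2 (j u : ℕ) : Bool :=
  Bool.rec (motive := fun _ => Bool) (lDef P (nat_lit 7) (Nat.mod (T_f u) M) u) (dp_f_1 j u) (Nat.ble (nat_lit 9) j)
noncomputable def disp_f (j u : ℕ) : Bool :=
  Bool.rec (motive := fun _ => Bool) (Bool.rec (motive := fun _ => Bool) (lF1 T_f M (Nat.sub (T_f u) (Nat.mod (T_f u) M)) (Nat.mod (T_f u) M) u) (Bool.rec (motive := fun _ => Bool) (lF3 T_k T_f T_k M (Nat.sub (T_f u) (Nat.mod (T_f u) M)) (Nat.mod (T_f u) M) u) (Bool.rec (motive := fun _ => Bool) (lF3 T_d T_f T_d M (Nat.sub (T_f u) (Nat.mod (T_f u) M)) (Nat.mod (T_f u) M) u) (lF3 T_h T_f T_h M (Nat.sub (T_f u) (Nat.mod (T_f u) M)) (Nat.mod (T_f u) M) u) (Nat.ble (nat_lit 3) j)) (Nat.ble (nat_lit 2) j)) (Nat.ble (nat_lit 1) j)) (Bool.rec (motive := fun _ => Bool) (Bool.rec (motive := fun _ => Bool) (lF3 T_l T_f T_l M (Nat.sub (T_f u) (Nat.mod (T_f u) M))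 (Nat.mod (T_f u) M) u) (Bool.rec (motive := fun _ => Bool) (lF3 T_a T_f T_a M (Nat.sub (T_f u) (Nat.mod (T_f u) M)) (Nat.mod (T_f u) M) u) (lF3 T_b T_f T_b M (Nat.sub (T_f u) (Nat.mod (T_f u) M)) (Nat.mod (T_f u) M) u) (Nat.ble (nat_lit 6) j)) (Nat.ble (nat_lit 5) j)) (Bool.rec (motive := fun _ => Bool) (lF3 T_c T_f T_c M (Nat.sub (T_f u) (Nat.mod (T_f u) M)) (Nat.mod (T_f u) M) u) (dp_f_2 j u) (Nat.ble (nat_lit 8) j)) (Nat.ble (nat_lit 7) j)) (Nat.ble (nat_lit 4) j)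
noncomputable def chk_f (j u : ℕ) : Bool :=
  Bool.rec (motive := fun _ => Bool) (disp_f j u) (Nat.ble (Nat.succ (MG u)) A) (Nat.ble A (T_f u))
noncomputable def dp_h_0 (j u : ℕ) : Bool :=
  Bool.rec (motive := fun _ => Bool) (lH [] [] M (Nat.sub (T_h u) (Nat.mod (T_h u) M)) (Nat.mod (T_h u) M) u) (lF3 T_e T_h T_e M (Nat.sub (T_h u) (Nat.mod (T_h u) M)) (Nat.mod (T_h u) M) u) (Nat.ble (nat_lit 11) j)
noncomputable def dp_h_1 (j u : ℕ) : Bool :=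
  Bool.rec (motive := fun _ => Bool) (lF3 T_f T_h T_f M (Nat.sub (T_h u) (Nat.mod (T_h u) M)) (Nat.mod (T_h u) M) u) (dp_h_0 j u) (Nat.ble (nat_lit 10) j)
noncomputable def dp_h_2 (j u : ℕ) : Bool :=
  Bool.rec (motive := fun _ => Bool) (lF [T_d, T_h, T_d, T_h, T_d] M (Nat.sub (T_h u) (Nat.mod (T_h u) M)) (Nat.mod (T_h u) M) u) (dp_h_1 j u) (Nat.ble (nat_lit 9) j)
noncomputable def dp_h_3 (j u : ℕ) : Bool :=
  Bool.rec (motive := fun _ => Bool) (lF1 T_h M (Nat.sub (T_h u) (Nat.mod (T_h u) M)) (Nat.mod (T_h u) M) u) (dp_h_2 j u) (Nat.ble (nat_lit 8) j)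
noncomputable def disp_h (j u : ℕ) : Bool :=
  Bool.rec (motive := fun _ => Bool) (Bool.rec (motive := fun _ => Bool) (lDef P (nat_lit 8) (Nat.mod (T_h u) M) u) (lDef P (nat_lit 8) u (Nat.mod (T_h u) M)) (Nat.ble (nat_lit 1) j)) (Bool.rec (motive := fun _ => Bool) (Bool.rec (motive := fun _ => Bool) (lF3 T_k T_h T_k M (Nat.sub (T_h u) (Nat.mod (T_h u) M)) (Nat.mod (T_h u) M) u) (Bool.rec (motive := fun _ => Bool) (lF3 T_l T_h T_l M (Nat.sub (T_h u) (Nat.mod (T_h u) M)) (Nat.mod (T_h u) M) u) (lF3 T_a T_h T_a M (Nat.sub (T_h u) (Nat.mod (T_h u) M)) (Nat.mod (T_h u) M) u) (Nat.ble (nat_lit 4) j)) (Nat.ble (nat_lit 3) j)) (Bool.rec (motive := fun _ => Bool) (Bool.rec (motive := fun _ => Bool) (lF3 T_b T_h T_b M (Nat.sub (T_h u) (Nat.mod (T_h u) M)) (Nat.mod (T_h u) M) u) (lF3 T_c T_h T_c M (Nat.sub (T_h u) (Nat.mod (T_h u) M)) (Nat.mod (T_h u) M) u) (Nat.ble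 (nat_lit 6) j)) (dp_h_3 j u) (Nat.ble (nat_lit 7) j)) (Nat.ble (nat_lit 5) j)) (Nat.ble (nat_lit 2) j)
noncomputable def chk_h (j u : ℕ) : Bool :=
  Bool.rec (motive := fun _ => Bool) (disp_h j u) (Nat.ble (Nat.succ (MG u)) A) (Nat.ble A (T_h u))
noncomputable def dM_0 (j z1 z2 u : ℕ) : Bool :=
  Bool.rec (motive := fun _ => Bool) (Bool.rec (motive := fun _ => Bool) (mCo MG T_f M (Nat.sub (MG u) (Nat.mod (MG u) M)) (nat_lit 40) z1 z2 u (Nat.mod (MG u) M)) (mCo MG T_e M (Nat.sub (MG u) (Nat.mod (MG u) M)) (nat_lit 40) z1 z2 u (Nat.mod (MG u) M)) (Nat.ble (nat_lit 1) j)) (Bool.rec (motive := fun _ => Bool) (Bool.rec (motive := fun _ => Bool) (mCo MG T_d M (Nat.sub (MG u) (Nat.mod (MG u) M)) (nat_lit 40) z1 z2 u (Nat.mod (MG u) M)) (Bool.rec (motive := fun _ => Bool) (mCo MG T_h M (Nat.sub (MG u) (Nat.mod (MG u) M)) (nat_lit 40) z1 z2 u (Nat.mod (MG u) M))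 (mCo MG T_c M (Nat.sub (MG u) (Nat.mod (MG u) M)) (nat_lit 40) z1 z2 u (Nat.mod (MG u) M)) (Nat.ble (nat_lit 4) j)) (Nat.ble (nat_lit 3) j)) (Bool.rec (motive := fun _ => Bool) (Bool.rec (motive := fun _ => Bool) (mCo MG T_b M (Nat.sub (MG u) (Nat.mod (MG u) M)) (nat_lit 40) z1 z2 u (Nat.mod (MG u) M)) (mCo MG T_a M (Nat.sub (MG u) (Nat.mod (MG u) M)) (nat_lit 40) z1 z2 u (Nat.mod (MG u) M)) (Nat.ble (nat_lit 6) j)) (Bool.rec (motive := fun _ => Bool) (mCo MG T_k M (Nat.sub (MG u) (Nat.mod (MG u) M)) (nat_lit 40) z1 z2 u (Nat.mod (MG u) M)) (Bool.rec (motive := fun _ => Bool) (mCo MG T_l M (Nat.sub (MG u) (Nat.mod (MG u) M)) (nat_lit 40) z1 z2 u (Nat.mod (MG u) M)) (mRel MG [T_k, T_d, T_k] [T_d] M (Nat.sub (MG u) (Nat.mod (MG u) M)) (nat_lit 40) z1 u (Nat.mod (MG u) M)) (Nat.ble (nat_lit 9) j)) (Nat.ble (nat_lit 8) j)) (Nat.ble (nat_lit 7) j)) (Nat.ble (nat_lit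 5) j)) (Nat.ble (nat_lit 2) j)
noncomputable def chkM (u : ℕ) : Bool :=
  Bool.rec (motive := fun _ => Bool) (band (Nat.ble (Nat.succ (Nat.mod (MG u) M)) u) (dM_0 (Nat.land (MR u) (nat_lit 15)) (Nat.land (Nat.shiftRight (MR u) (nat_lit 4)) (nat_lit 255)) (Nat.shiftRight (MR u) (nat_lit 12)) u)) true (Nat.ble A (MG u))
noncomputable def chkN (u : ℕ) : Bool :=
  band (chk_l (Nat.land (Nat.shiftRight (RS u) (nat_lit 0)) (nat_lit 15)) u) (band (chk_k (Nat.land (Nat.shiftRight (RS u) (nat_lit 4)) (nat_lit 15)) u) (band (chk_a (Nat.land (Nat.shiftRight (RS u) (nat_lit 8)) (nat_lit 15)) u) (band (chk_b (Nat.land (Nat.shiftRight (RS u) (nat_lit 12)) (nat_lit 15)) u) (band (chk_c (Nat.land (Nat.shiftRight (RS u) (nat_lit 16)) (nat_lit 15)) u) (band (chk_d (Nat.land (Nat.shiftRight (RS u) (nat_lit 20)) (nat_lit 15)) u) (band (chk_e (Nat.land (Nat.shiftRight (RS u)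 (nat_lit 24)) (nat_lit 15)) u) (band (chk_f (Nat.land (Nat.shiftRight (RS u) (nat_lit 28)) (nat_lit 15)) u) (band (chk_h (Nat.land (Nat.shiftRight (RS u) (nat_lit 32)) (nat_lit 15)) u) (chkM u)))))))))
noncomputable def chkP (u : ℕ) : Bool := Bool.rec (motive := fun _ => Bool) (chkN u) true (Nat.ble M u)
noncomputable def liveP (u : ℕ) : Bool := Bool.rec (motive := fun _ => Bool) (Nat.ble A (MG u)) false (Nat.ble M u)
end H35.TCF24Q
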